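import Groth.Prelude.Def_AlgGrp
import Groth.Agent.IsoTriv.HenselianIso
import Groth.Agent.HenselLib.SectionsLift
import Groth.Agent.HenselLib.Perm
import Groth.Agent.FlatMorSmoothSect.Scheme
import Mathlib.AlgebraicGeometry.Morphisms.LocalFlatDescent
import Mathlib.AlgebraicGeometry.Morphisms.Finite
import Mathlib.RingTheory.Etale.Field
import Mathlib.CategoryTheory.Monoidal.Cartesian.Over

/-! Smooth torsors over henselian local rings are isotrivial. -/

set_option autoImplicit false
set_option linter.style.haveILetI false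
set_option backward.isDefEq.respectTransparency.types false

universe u

open CategoryTheory CategoryTheory.Limits MonoidalCategory CartesianMonoidalCategory AlgebraicGeometry

noncomputable section

namespace Groth.Agent.TorsorIsotriv26

/-- A smooth scheme with a point over a field has a point in a finite separable extension. -/
theorem exists_sep_finite_point {κ : Type u} [Field κ] {X : Scheme.{u}} (f : X ⟶ Spec (CommRingCat.of κ))
    [Smooth f] (x : X) :
    ∃ (k' : Type u) (_ : Field k') (_ : Algebra κ k') (_ : Module.Finite κ k') (_ : Algebra.IsSeparable κ k')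
      (t : Spec (CommRingCat.of k') ⟶ X), t ≫ f = Spec.map (CommRingCat.ofHom (algebraMap κ k')) := by
  obtain ⟨S', g, s', hg, -, h, hh⟩ := FlatMorSmoothSect.exists_section_etale_locally f x
  obtain ⟨V, hV, hsV, -⟩ := exists_isAffineOpen_mem_and_subset (x := s') (U := ⊤) trivial
  obtain ⟨φ, hφ⟩ := Spec.map_surjective (hV.fromSpec ≫ g)
  haveI : Etale (Spec.map φ) := by rw [hφ]; infer_instance
  have het : φ.hom.Etale := (HasRingHomProperty.Spec_iff (P := @Etale)).1 inferInstance
  algebraize [φ.hom]
  obtain ⟨I, hI, Ai, hf, ha, e, hsep⟩ :=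
    (Algebra.FormallyEtale.iff_exists_algEquiv_prod κ Γ(S', V)).1 inferInstance
  haveI : Module.Finite κ Γ(S', V) := Algebra.FormallyUnramified.finite_of_free κ _
  have hne : Nonempty I := by
    by_contra hc
    rw [not_nonempty_iff] at hc
    haveI : Subsingleton Γ(S', V) := e.toEquiv.subsingleton
    exact (hV.primeIdealOf ⟨s', hsV⟩).isPrime.ne_top (Subsingleton.elim _ _)
  obtain ⟨j⟩ := hne
  let π : Γ(S', V) →ₐ[κ] Ai j := (Pi.evalAlgHom κ Ai j).comp e.toAlgHom
  have hπ : Function.Surjective π := (Function.surjective_eval j).comp e.surjective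
  refine ⟨Ai j, hf j, ha j, Module.Finite.of_surjective π.toLinearMap hπ, hsep j,
    Spec.map (CommRingCat.ofHom π.toRingHom) ≫ hV.fromSpec ≫ h, ?_⟩
  rw [Category.assoc, Category.assoc, hh, ← hφ, ← Spec.map_comp]
  exact congrArg Spec.map (CommRingCat.hom_ext (RingHom.ext π.commutes))

theorem smooth_torsor {S : Scheme.{u}} [CompactSpace S] [QuasiSeparatedSpace S] {G P : Over S} [GrpObj G] [Smooth G.hom]
    (a : AlgGrp.Action G P) (hs : Surjective P.hom) (hflat : Flat P.hom) (hlfp : LocallyOfFinitePresentation P.hom)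
    (hiso : IsIso (lift a.act (snd G P))) : Smooth P.hom := by
  haveI : Smooth (pullback.snd P.hom P.hom) := by
    let e : (G ⊗ P).left ⟶ (P ⊗ P).left := (lift a.act (snd G P)).left
    haveI : IsIso e := (Over.forget _).map_isIso (lift a.act (snd G P))
    have he : e ≫ pullback.snd P.hom P.hom = pullback.snd G.hom P.hom :=
      congrArg (fun m => m.left) (lift_snd a.act (snd G P))
    rw [← (IsIso.inv_comp_eq e).2 he.symm]
    infer_instance
  have hopen : IsOpenMap P.hom := P.hom.isOpenMap
  have hcov : ∀ s : S, ∃ V : P.left.Opens, IsCompact (V : Set P.left) ∧ s ∈ P.hom '' (V : Set P.left) := fun s => by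
    obtain ⟨p, rfl⟩ := hs.surj s
    obtain ⟨V, hV, hp, -⟩ := exists_isAffineOpen_mem_and_subset (x := p) (U := ⊤) trivial
    exact ⟨V, hV.isCompact, p, hp, rfl⟩
  choose V hVc hVm using hcov
  obtain ⟨t, ht⟩ := isCompact_univ.elim_finite_subcover (fun s => P.hom '' (V s : Set P.left))
    (fun s => hopen _ (V s).isOpen) fun s _ => Set.mem_iUnion.2 ⟨s, hVm s⟩
  let W : P.left.Opens := ⨆ s ∈ t, V s
  have hW : IsCompact (W : Set P.left) := by
    simp only [W, TopologicalSpace.Opens.coe_iSup]
    exact t.finite_toSet.isCompact_biUnion fun s _ => hVc s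
  haveI : CompactSpace (W : Scheme.{u}) := isCompact_iff_compactSpace.1 hW
  let q := W.ι ≫ P.hom
  haveI : QuasiCompact q := by
    haveI : QuasiCompact (q ≫ terminal.from S) := by
      rw [show q ≫ terminal.from S = terminal.from _ from terminalIsTerminal.hom_ext _ _]
      infer_instance
    exact QuasiCompact.of_comp q (terminal.from S)
  haveI : Flat q := inferInstance
  haveI : Surjective q := ⟨fun s => by
    obtain ⟨i, hi, z, hz, rfl⟩ : ∃ i ∈ t, s ∈ P.hom '' (V i : Set P.left) := by simpa using ht (Set.mem_univ s)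
    have hzW : z ∈ W := by
      simp only [W, TopologicalSpace.Opens.mem_iSup]
      exact ⟨i, hi, hz⟩
    exact ⟨⟨z, hzW⟩, rfl⟩⟩
  let m : pullback P.hom q ⟶ pullback P.hom P.hom :=
    pullback.lift (pullback.fst P.hom q) (pullback.snd P.hom q ≫ W.ι) (by rw [pullback.condition, Category.assoc])
  have hm : IsPullback m (pullback.snd P.hom q) (pullback.snd P.hom P.hom) W.ι := by
    refine IsPullback.of_right ?_ (pullback.lift_snd _ _ _) (IsPullback.of_hasPullback P.hom P.hom)
    rw [show m ≫ pullback.fst P.hom P.hom = pullback.fst P.hom q from pullback.lift_fst _ _ _]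
    exact IsPullback.of_hasPullback P.hom q
  haveI : Smooth (pullback.snd P.hom q) := MorphismProperty.of_isPullback (P := @Smooth) hm inferInstance
  exact MorphismProperty.of_pullback_snd_of_descendsAlong (P := @Smooth) (Q := @Surjective ⊓ @Flat ⊓ @QuasiCompact)
    (g := q) ⟨⟨inferInstance, inferInstance⟩, inferInstance⟩ inferInstance

/-- A smooth surjective scheme over a henselian local ring has a section over a finite étale cover. -/
theorem exists_finiteEtale_section (A : Type u) [CommRing A] [HenselianLocalRing A] {X : Scheme.{u}}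
    (g : X ⟶ Spec (CommRingCat.of A)) [Smooth g] [Surjective g] :
    ∃ (S' : Scheme.{u}) (f : S' ⟶ Spec (CommRingCat.of A)) (σ : S' ⟶ X),
      IsFinite f ∧ Etale f ∧ Surjective f ∧ σ ≫ g = f := by
  let κ := IsLocalRing.ResidueField A
  let r : Spec (CommRingCat.of κ) ⟶ Spec (CommRingCat.of A) := Spec.map (CommRingCat.ofHom (IsLocalRing.residue A))
  obtain ⟨x⟩ : Nonempty ↥(pullback g r) := by
    obtain ⟨z, -⟩ := (pullback.snd g r).surjective (IsLocalRing.closedPoint κ)
    exact ⟨z⟩
  obtain ⟨k', _, _, hfin, hsep, t, ht⟩ := exists_sep_finite_point (pullback.snd g r) x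
  obtain ⟨B, _, _, θ, hloc, hBfin, het, hff, hlθ, hθ, hker, hcomm⟩ := IsoTriv.exists_local_lift (R := A) k'
  haveI := hloc
  haveI := hBfin
  haveI := het
  haveI := hff
  haveI : Algebra.IsIntegral A B := Algebra.IsIntegral.of_finite A B
  haveI : HenselianLocalRing B := HenselLib.henselianLocalRing_of_isIntegral A B
  let f : Spec (CommRingCat.of B) ⟶ Spec (CommRingCat.of A) := Spec.map (CommRingCat.ofHom (algebraMap A B))
  have hmax : RingHom.ker θ = IsLocalRing.maximalIdeal B :=
    IsLocalRing.eq_maximalIdeal (RingHom.ker_isMaximal_of_surjective θ hθ)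
  let ψ : IsLocalRing.ResidueField B →+* k' := Ideal.Quotient.lift _ θ fun b hb => by rwa [← hmax] at hb
  have hψ : Function.Bijective ψ := ⟨ψ.injective, fun y => by
    obtain ⟨b, rfl⟩ := hθ y
    exact ⟨IsLocalRing.residue B b, rfl⟩⟩
  let ε := RingEquiv.ofBijective ψ hψ
  let τ : Spec (CommRingCat.of (IsLocalRing.ResidueField B)) ⟶ Spec (CommRingCat.of k') :=
    Spec.map (CommRingCat.ofHom ε.symm.toRingHom)
  have hτ : τ ≫ t ≫ pullback.fst g r ≫ g = Spec.map (CommRingCat.ofHom (IsLocalRing.residue B)) ≫ f := by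
    rw [pullback.condition, ← Category.assoc t, ht, ← Spec.map_comp, ← Spec.map_comp, ← Spec.map_comp]
    refine congrArg Spec.map (CommRingCat.hom_ext (RingHom.ext fun a => ?_))
    show ε.symm (algebraMap κ k' (IsLocalRing.residue A a)) = IsLocalRing.residue B (algebraMap A B a)
    rw [← hcomm, RingEquiv.symm_apply_eq]
    rfl
  obtain ⟨s, hs, -⟩ := HenselLib.SectionsLift.exists_section (pullback.snd g f)
    (pullback.lift (τ ≫ t ≫ pullback.fst g r) (Spec.map (CommRingCat.ofHom (IsLocalRing.residue B)))
      (by rw [Category.assoc, Category.assoc, hτ]))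
    (pullback.lift_snd _ _ _)
  refine ⟨_, f, s ≫ pullback.fst g f, ?_, ?_, ?_, ?_⟩
  · exact (IsFinite.SpecMap_iff _).2 (RingHom.finite_algebraMap.2 inferInstance)
  · exact (HasRingHomProperty.Spec_iff (P := @Etale)).2 (RingHom.etale_algebraMap.2 inferInstance)
  · exact ⟨PrimeSpectrum.comap_surjective_of_faithfullyFlat⟩
  · rw [Category.assoc, pullback.condition, ← Category.assoc, hs, Category.id_comp]

end Groth.Agent.TorsorIsotriv26
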